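import Mathlib
import Cfsg.Agent.Lib.PSLSyl.Tor
import Cfsg.Agent.Lib.Syl2EA.GL
import Cfsg.Agent.Lib.GL2.Basic

/-!
# The torus of maximal 2-part in `GL₂(q)`, `q` odd
-/

set_option autoImplicit false
set_option linter.unusedSectionVars false
set_option linter.unusedSimpArgs false

namespace CfsgLib.PSLSyl

open CfsgLib.Syl2EA CfsgLib.GL2 Subgroup Matrix
open scoped Pointwise

universe u

/-- a maximal torus of `GL₂(F)` with the action of its Weyl group -/
structure TD (F : Type*) [Field F] (H : Type*) [CommGroup H] where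
  j : H →* GL (Fin 2) F
  θ : H →* H
  r : GL (Fin 2) F
  u : Fˣ →* H
  y : H
  inj : Function.Injective j
  conj : ∀ a, r * j a = j (θ a) * r
  r_sq : r * r = j (u (-1))
  det_r : GeneralLinearGroup.det r = 1
  j_u : ∀ c, j (u c) = GeneralLinearGroup.scalar _ c
  N : ∀ a, a * θ a = u (GeneralLinearGroup.det (j a))
  fix : ∀ a, θ a = a → ∃ c, a = u c
  y_sq : y * (θ y)⁻¹ * (y * (θ y)⁻¹) = u (-1)
  four : ∀ (c : Fˣ) (k : ℕ), c ^ 2 ^ k = 1 → c ^ 4 = 1 ∨ ∃ a, a ^ 2 ^ k = 1 ∧ (a * (θ a)⁻¹) ^ 4 ≠ 1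
  card : (Nat.card (GL (Fin 2) F)).factorization 2 ≤ (Nat.card H).factorization 2 + 1

variable {F : Type u} [Field F] [Fintype F]

theorem td_split (h : Fintype.card F % 4 = 1) : Nonempty (TD F (Fin 2 → Fˣ)) := by
  obtain ⟨i, hi⟩ := FiniteField.isSquare_neg_one_iff.2 (show Fintype.card F % 4 ≠ 3 by omega)
  have hi0 : i ≠ 0 := by rintro rfl; simp at hi
  refine ⟨{
    j := dg 2 F
    θ := MonoidHom.pi ![Pi.evalMonoidHom _ 1, Pi.evalMonoidHom _ 0]
    r := mk2 0 (-1) 1 0 (by simp)
    u := MonoidHom.pi fun _ => MonoidHom.id _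
    y := ![Units.mk0 i hi0, 1]
    inj := dg_injective
    conj a := by refine ext2 ?_ ?_ ?_ ?_ <;> simp [mul_ap, mk2_coe, coe_dg]
    r_sq := by refine ext2 ?_ ?_ ?_ ?_ <;> simp [mul_ap, mk2_coe, coe_dg]
    det_r := Units.ext (by simp [mk2_coe])
    j_u c := by refine ext2 ?_ ?_ ?_ ?_ <;> simp [coe_dg, GeneralLinearGroup.scalar]
    N a := by funext l; fin_cases l <;> simp [det_dg, mul_comm]
    fix a ha := ⟨a 0, by
      have := congrFun ha 0
      funext l; fin_cases l
      · rfl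
      · simpa using this⟩
    y_sq := by
      funext l; fin_cases l
      · exact Units.ext (by simp [← hi])
      · exact Units.ext (by simp; rw [← mul_inv, ← hi, inv_neg, inv_one])
    four c k hc := or_iff_not_imp_left.2 fun h4 => ⟨![c, 1], by funext l; fin_cases l <;> simp [hc],
      fun h => h4 (by simpa using congrFun h 0)⟩
    card := ?_ }⟩
  have hF : Odd (Fintype.card F) := Nat.odd_iff.2 (by omega)
  have h1 := Fintype.one_lt_card (α := F)
  rw [val_gl2 hF, Nat.card_fun, Nat.factorization_pow, Finsupp.smul_apply, Classical.sl_card_units,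
    ← one_pow 2, Nat.sq_sub_sq, Nat.factorization_mul (by omega) (by omega), Finsupp.add_apply,
    val_of_mod (by omega)]
  simp; omega

open QuadraticAlgebra in
theorem td_field (h : Fintype.card F % 4 = 3) : Nonempty (TD F (QuadraticAlgebra F (-1) 0)ˣ) := by
  have hF : Odd (Fintype.card F) := Nat.odd_iff.2 (by omega)
  have h1 := Fintype.one_lt_card (α := F)
  have h2 := Orth.two_ne_zero_of_odd_card hF
  have hf : Fact (∀ r : F, r ^ 2 ≠ -1 + 0 * r) := ⟨fun r hr => (FiniteField.isSquare_neg_one_iff.1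
    ⟨r, by rw [← pow_two, hr]; simp⟩) h⟩
  obtain ⟨s, t, hst⟩ : ∃ s t : F, s ^ 2 + t ^ 2 = -1 := by
    obtain ⟨p, hp, -, hp', -⟩ := FiniteField.card' F
    have : NeZero p := ⟨hp'.ne_zero⟩
    obtain ⟨a, b, hab⟩ := CharP.sq_add_sq F p (-1)
    exact ⟨a, b, by simpa using hab⟩
  let K := QuadraticAlgebra F (-1) 0
  have : Finite K := Finite.of_equiv _ (QuadraticAlgebra.equivProd _ _).symm
  have hK : Nat.card K = Fintype.card F * Fintype.card F := by
    rw [Nat.card_congr (QuadraticAlgebra.equivProd _ _), Nat.card_prod, Nat.card_eq_fintype_card]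
  let ψ : Kˣ →* GL (Fin 2) F :=
    { toFun a := mk2 a.1.re (-a.1.im) a.1.im a.1.re fun H => a.ne_zero
        (QuadraticAlgebra.norm_eq_zero_iff_eq_zero.1 (by rw [QuadraticAlgebra.norm_def]; linear_combination H))
      map_one' := ext2 rfl neg_zero rfl rfl
      map_mul' a b := by refine ext2 ?_ ?_ ?_ ?_ <;> simp [mul_ap, mk2_coe, K] <;> ring }
  have hy : (⟨1, 1⟩ : K) ≠ 0 := fun e => one_ne_zero (congrArg QuadraticAlgebra.re e)
  refine ⟨{
    j := ψ
    θ := Units.map (starRingEnd K).toMonoidHom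
    r := mk2 s t t (-s) (by rw [show s * -s - t * t = 1 by linear_combination -hst]; exact one_ne_zero)
    u := Units.map (algebraMap F K).toMonoidHom
    y := Units.mk0 _ hy
    inj a b H := Units.ext (QuadraticAlgebra.ext (congrArg (fun g : GL (Fin 2) F => g.1 0 0) H)
      (congrArg (fun g : GL (Fin 2) F => g.1 1 0) H))
    conj a := by refine ext2 ?_ ?_ ?_ ?_ <;> simp [mul_ap, mk2_coe, ψ, K, starRingEnd_apply] <;> ring
    r_sq := by
      refine ext2 ?_ ?_ ?_ ?_ <;> simp [mul_ap, mk2_coe, ψ, K] <;>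
        first | ring1 | linear_combination hst
    det_r := Units.ext (by simp [mk2_coe]; linear_combination -hst)
    j_u c := by refine ext2 ?_ ?_ ?_ ?_ <;> simp [mk2_coe, ψ, K, GeneralLinearGroup.scalar]
    N a := Units.ext (by ext <;> simp [mk2_coe, ψ, K, starRingEnd_apply]; ring)
    fix a ha := by
      have h3 : -a.1.im = a.1.im := congrArg (fun b : Kˣ => b.1.im) ha
      have h4 : a.1.im = 0 := (mul_eq_zero.1 (show 2 * a.1.im = 0 by linear_combination -h3)).resolve_left h2
      exact ⟨Units.mk0 a.1.re fun e => a.ne_zero (QuadraticAlgebra.ext e h4), Units.ext (by ext <;> simp [h4, K])⟩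
    y_sq := by
      rw [mul_mul_mul_comm, ← mul_inv, mul_inv_eq_iff_eq_mul]
      exact Units.ext (by ext <;> simp [K, starRingEnd_apply])
    four c k hc := Or.inl ?_
    card := ?_ }⟩
  · obtain ⟨C⟩ : Nonempty (Sylow 2 Fˣ) := inferInstance
    have := pow_card_eq_one' (x := (⟨c, mem_sylow_of_pow C hc⟩ : (C : Subgroup Fˣ)))
    rw [C.card_eq_multiplicity, Classical.sl_card_units, val_of_mod (by omega), pow_one] at this
    rw [show 4 = 2 * 2 from rfl, pow_mul, show c ^ 2 = 1 from congrArg Subtype.val this, one_pow]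
  · rw [val_gl2 hF, Nat.card_units, hK, val_of_mod (n := Fintype.card F - 1) (by omega), pow_two]

theorem exists_td (hF : Odd (Fintype.card F)) : ∃ (H : Type u) (_ : CommGroup H) (_ : Finite H), Nonempty (TD F H) := by
  rcases (by have := Nat.odd_iff.1 hF; omega : Fintype.card F % 4 = 1 ∨ Fintype.card F % 4 = 3) with h | h
  · exact ⟨_, _, inferInstance, td_split h⟩
  · have : Finite (QuadraticAlgebra F (-1) 0) := Finite.of_equiv _ (QuadraticAlgebra.equivProd _ _).symm
    exact ⟨_, _, inferInstance, td_field h⟩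

theorem scalar_injective {n : Type*} [Fintype n] [DecidableEq n] [Nonempty n] :
    Function.Injective (GeneralLinearGroup.scalar n : Fˣ →* GL n F) := fun _ _ h =>
  Units.ext (Matrix.scalar_inj.1 (congrArg Units.val h))

theorem scalar_comm {n : Type*} [Fintype n] [DecidableEq n] (c : Fˣ) (g : GL n F) :
    g * GeneralLinearGroup.scalar n c = GeneralLinearGroup.scalar n c * g :=
  mem_center_iff.1 (GeneralLinearGroup.center_eq_range_scalar (n := n) (R := F) ▸ ⟨c, rfl⟩) g

theorem exists_blk (hF : Odd (Fintype.card F)) : ∃ (A : Type u) (_ : CommGroup A) (_ : Finite A) (B : Tor A)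
    (R : Subgroup (GL (Fin 2) F)) (j : A →* R) (r : R), IsPGroup 2 R ∧
    (Nat.card (GL (Fin 2) F)).factorization 2 ≤ (Nat.card R).factorization 2 ∧
    (∀ a, r * j a * r⁻¹ = j (B.θ a)) ∧ r * r = j B.z ∧ (∀ g, ∃ a, g = j a ∨ g = j a * r) ∧
    GeneralLinearGroup.det r.1 = 1 ∧ Function.Injective j ∧
    (∀ a, B.N a = 1 ↔ GeneralLinearGroup.det (j a).1 = 1) ∧
    ∀ a, B.θ a = a ↔ ∃ c, (j a).1 = GeneralLinearGroup.scalar _ c := by
  obtain ⟨H, _, _, ⟨D⟩⟩ := exists_td hF
  obtain ⟨C⟩ : Nonempty (Sylow 2 H) := inferInstance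
  have h2 := Orth.two_ne_zero_of_odd_card hF
  have hu : Function.Injective D.u := fun a b h => scalar_injective (by rw [← D.j_u, ← D.j_u, h])
  have hc : ∀ a, D.r * D.j a * D.r⁻¹ = D.j (D.θ a) := fun a => by rw [D.conj, mul_inv_cancel_right]
  have hθθ : ∀ a, D.θ (D.θ a) = a := fun a => D.inj (by
    rw [← hc, ← hc]
    calc _ = D.r * D.r * D.j a * (D.r * D.r)⁻¹ := by group
      _ = _ := by rw [D.r_sq, D.j_u, ← scalar_comm, mul_inv_cancel_right])
  have hz : D.u (-1) * D.u (-1) = 1 := by rw [← map_mul]; simp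
  have hzC : D.u (-1) ∈ (C : Subgroup H) := mem_sylow_of_pow C (k := 1) (by rw [pow_one, pow_two, hz])
  obtain ⟨k, m, hm, e⟩ := Nat.exists_eq_two_pow_mul_odd (orderOf_pos D.y).ne'
  have hyC : D.y ^ m ∈ (C : Subgroup H) :=
    mem_sylow_of_pow C (k := k) (by rw [← pow_mul, mul_comm, ← e, pow_orderOf_eq_one])
  let B : Tor (C : Subgroup H) :=
    { θ := (D.θ.comp (C : Subgroup H).subtype).codRestrict _ fun a => map_mem_sylow C _ C.isPGroup' a.2
      y := ⟨_, hyC⟩
      z := ⟨_, hzC⟩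
      θθ a := Subtype.ext (hθθ a)
      z_sq := Subtype.ext hz
      z_ne h := by
        have := congrArg Units.val (hu ((congrArg Subtype.val h).trans (map_one D.u).symm))
        exact h2 (by simp only [Units.val_neg, Units.val_one] at this; linear_combination -this)
      inv a ha h := by
        obtain ⟨c, hc⟩ := D.fix a (congrArg Subtype.val ha)
        have h3 : c * c = 1 := hu (by rw [map_mul, ← hc, map_one]; exact congrArg Subtype.val h)
        rcases mul_self_eq_one_iff.1 (congrArg Units.val h3) with h4 | h4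
        · exact Or.inl (Subtype.ext (by rw [hc, show c = 1 from Units.ext h4, map_one]; rfl))
        · exact Or.inr (Subtype.ext (by rw [hc, show c = -1 from Units.ext h4]))
      y_sq := Subtype.ext (by
        change D.y ^ m * (D.θ (D.y ^ m))⁻¹ * (D.y ^ m * (D.θ (D.y ^ m))⁻¹) = D.u (-1)
        rw [map_pow, ← inv_pow, ← mul_pow, ← mul_pow, D.y_sq, ← map_pow, hm.neg_one_pow])
      four h a ha := by
        obtain ⟨c, hc⟩ := D.fix a (congrArg Subtype.val ha)
        obtain ⟨l, hl⟩ := C.isPGroup' a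
        rcases D.four c l (hu (by rw [map_pow, ← hc, map_one]; exact congrArg Subtype.val hl)) with h3 | ⟨b, h3, h4⟩
        · exact Subtype.ext (by rw [SubmonoidClass.coe_pow, hc, ← map_pow, h3, map_one]; rfl)
        · exact absurd (congrArg Subtype.val (h ⟨b, mem_sylow_of_pow C h3⟩)) h4 }
  let j := D.j.comp (C : Subgroup H).subtype
  have hj : Function.Injective j := D.inj.comp Subtype.val_injective
  have hc' : ∀ a, D.r * j a * D.r⁻¹ = j (B.θ a) := fun a => hc a
  have hr : D.r * D.r = j B.z := D.r_sq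
  have hn : zpowers D.r ≤ normalizer (j.range : Set (GL (Fin 2) F)) :=
    zpowers_le.2 (Fusion.mem_normalizer_of_conj_mem (by rintro _ ⟨a, rfl⟩; exact ⟨_, (hc' a).symm⟩))
  have hj2 : IsPGroup 2 j.range := C.isPGroup'.of_surjective _ j.rangeRestrict_surjective
  have hR : IsPGroup 2 (j.range ⊔ zpowers D.r : Subgroup _) := by
    refine hj2.to_sup_of_normal_left' (IsPGroup.of_card_dvd_pow (n := 2) ?_) hn
    rw [Nat.card_zpowers, orderOf_dvd_iff_pow_eq_one, show 2 ^ 2 = 2 * 2 from rfl, pow_mul, pow_two D.r, hr,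
      ← map_pow, pow_two, B.z_sq, map_one]
  refine ⟨C, inferInstance, inferInstance, B, j.range ⊔ zpowers D.r,
    j.codRestrict _ fun a => mem_sup_left ⟨a, rfl⟩, ⟨D.r, mem_sup_right (mem_zpowers _)⟩, hR, D.card.trans ?_,
    fun a => Subtype.ext (hc' a), Subtype.ext hr, fun g => ?_, D.det_r, fun a b h => hj (congrArg Subtype.val h),
    fun a => ?_, fun a => ⟨fun h => ?_, fun ⟨c, h⟩ => hj ?_⟩⟩
  · have h3 : j.range < j.range ⊔ zpowers D.r := left_lt_sup.2 fun h => by
      obtain ⟨a, ha⟩ := h (mem_zpowers _)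
      have := hc' B.k
      rw [← ha, ← map_inv, ← map_mul, ← map_mul, mul_inv_cancel_comm, B.θ_k] at this
      exact B.k_inv_ne (hj this).symm
    have h4 := Fusion.card_lt_of_lt h3
    obtain ⟨a, ha⟩ := IsPGroup.iff_card.1 hR
    rw [← Nat.card_congr (MonoidHom.ofInjective hj).toEquiv, C.card_eq_multiplicity, ha] at h4
    rw [ha, Nat.prime_two.factorization_pow, Finsupp.single_eq_same]
    exact (Nat.pow_lt_pow_iff_right one_lt_two).1 h4
  · have : g.1 ∈ (j.range : Set (GL (Fin 2) F)) * (zpowers D.r : Set _) := by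
      rw [← coe_mul_of_right_le_normalizer_left _ _ hn]; exact g.2
    obtain ⟨_, ⟨a, rfl⟩, _, ⟨n, rfl⟩, e⟩ := this
    obtain ⟨l, rfl | rfl⟩ := Int.even_or_odd' n
    · exact ⟨a * B.z ^ l, Or.inl (Subtype.ext (by
        rw [← e]; simp only [_root_.zpow_mul, _root_.zpow_two, hr, map_mul, map_zpow]; rfl))⟩
    · exact ⟨a * B.z ^ l, Or.inr (Subtype.ext (by
        rw [← e]; simp only [_root_.zpow_add_one, _root_.zpow_mul, _root_.zpow_two, hr, map_mul, map_zpow, ← mul_assoc]; rfl))⟩
  · rw [← Subtype.val_inj, ← map_eq_one_iff _ hu]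
    exact (D.N a).congr_left
  · obtain ⟨c, hc⟩ := D.fix a (congrArg Subtype.val h)
    exact ⟨c, by rw [← D.j_u, ← hc]; rfl⟩
  · rw [← hc', show j a = _ from h, scalar_comm, mul_inv_cancel_right]

end CfsgLib.PSLSyl
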