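import Mathlib
import Cfsg.Agent.Lib.PSLSyl.Odd
import Cfsg.Agent.Lib.Syl2EA.Lin

/-!
# The model inside a wreath product
-/

set_option autoImplicit false
set_option linter.unusedSectionVars false

namespace CfsgLib.PSLSyl

open CfsgLib.Fusion CfsgLib.Syl2EA Equiv Subgroup
open scoped Pointwise

variable {A : Type*} [CommGroup A] {ι : Type*} [Fintype ι] [DecidableEq ι] {T : Type*} [Group T]
  {G D E : Type*} [Group G] [Group D] [Group E]

theorem nonempty_mdl [Finite G] [Subsingleton E] (B : Tor A) (j : A →* D) (r : D)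
    (hc : ∀ a, r * j a * r⁻¹ = j (B.θ a)) (hr : r * r = j B.z) (hD : ∀ g, ∃ a, g = j a ∨ g = j a * r)
    {δ : (ι → D) × E →* G} {ψ : Perm ι →* G} (hw : Wr δ ψ) (ev : Prop) (two : ev → Nontrivial ι)
    (H : Subgroup G) [H.Normal] (hH : ∀ x : ι → A, δ (j ∘ x, 1) ∈ H ↔ x ∈ B.base ev)
    (hrH : ∀ i, δ (Pi.mulSingle i r, 1) ∈ H) (W : Sylow 2 (Perm ι)) (π : G → T)
    (hπ : IsHomOn ((H ⊓ δ.range) ⊔ (W : Subgroup (Perm ι)).map ψ) π)
    (hs : ∀ t, ∃ g ∈ (H ⊓ δ.range) ⊔ (W : Subgroup (Perm ι)).map ψ, π g = t)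
    (hk : ∀ x ∈ B.base ev, π (δ (j ∘ x, 1)) = 1 ↔ B.Scal ev x) : Nonempty (Mdl B ι T) := by
  set P := (H ⊓ δ.range) ⊔ (W : Subgroup (Perm ι)).map ψ with hP
  have h1 : ∀ f, δ (f, 1) ∈ H → δ (f, 1) ∈ P := fun f h => mem_sup_left ⟨h, _, rfl⟩
  have h2 : ∀ σ ∈ W, ψ σ ∈ P := fun σ h => mem_sup_right ⟨σ, h, rfl⟩
  have h3 : ∀ x ∈ B.base ev, δ (j ∘ x, 1) ∈ P := fun x h => h1 _ ((hH x).2 h)
  have hm : ∀ f f' : ι → D, δ (f, 1) * δ (f', 1) = δ (f * f', 1) := fun f f' => by rw [← map_mul]; simp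
  have key : ∀ (f : ι → D) (σ : Perm ι) (ε : ι → Bool), δ (f, 1) ∈ H → σ ∈ W →
      (∀ i a, f i * j a * (f i)⁻¹ = j (B.th (ε i) a)) →
      Act B ev (fun x => π (δ (j ∘ x, 1))) (π (δ (f, 1) * ψ σ)) ε σ := fun f σ ε hf hσ h x hx => by
    rw [← hπ.map_conj (mul_mem (h1 f hf) (h2 σ hσ)) (h3 x hx)]
    congr 1
    calc _ = δ (f, 1) * (ψ σ * δ (j ∘ x, 1) * (ψ σ)⁻¹) * (δ (f, 1))⁻¹ := by group
      _ = _ := by
        rw [hw.conj, ← map_inv, ← map_mul, ← map_mul]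
        exact congrArg δ (Prod.ext (funext fun i => h i _) (Subsingleton.elim _ _))
  have hj : ∀ a b, j a * j b * (j a)⁻¹ = j b := fun a b => by
    rw [← map_inv, ← map_mul, ← map_mul, mul_inv_cancel_comm]
  refine ⟨{
    ev := ev
    W := W
    e x := π (δ (j ∘ x, 1))
    s i := π (δ (Pi.mulSingle i r, 1))
    two := two
    hom x hx y hy := by
      rw [← hπ.map_mul (h3 x hx) (h3 y hy), hm]
      exact congrArg (fun f => π (δ (f, 1))) (funext fun i => map_mul j _ _)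
    ker := hk
    ex t := ?_
    perm σ hσ := ⟨_, fun _ => false, key 1 σ _ (by rw [show ((1 : ι → D), (1 : E)) = 1 from rfl, map_one]; exact one_mem _)
      hσ fun i a => by simp⟩
    s_act i := by
      have := key _ 1 (fun l => decide (l = i)) (hrH i) (one_mem _) fun l a => by
        by_cases h : l = i
        · simp [h, hc]
        · simp [h]
      rwa [map_one, mul_one] at this
    s_comm i l := by
      rw [← hπ.map_mul (h1 _ (hrH i)) (h1 _ (hrH l)), ← hπ.map_mul (h1 _ (hrH l)) (h1 _ (hrH i))]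
      by_cases h : i = l
      · rw [h]
      · rw [(commute_single δ h r r).eq]
    s_sq i := by
      rw [← hπ.map_mul (h1 _ (hrH i)) (h1 _ (hrH i)), hm, ← Pi.mulSingle_mul, hr]
      refine congrArg (fun f => π (δ (f, 1))) (funext fun l => ?_)
      by_cases h : l = i <;> simp [h] }⟩
  obtain ⟨g, hg, rfl⟩ := hs t
  have hn : (W : Subgroup (Perm ι)).map ψ ≤ normalizer ((H ⊓ δ.range : Subgroup G) : Set G) := by
    rintro _ ⟨σ, -, rfl⟩
    refine mem_normalizer_of_conj_mem ?_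
    rintro _ ⟨h, ⟨f, e⟩, rfl⟩
    exact ⟨Normal.conj_mem inferInstance _ h _, _, (hw.conj σ f e).symm⟩
  have hg' : g ∈ ((H ⊓ δ.range : Subgroup G) : Set G) * ((W : Subgroup (Perm ι)).map ψ : Set G) := by
    rw [← coe_mul_of_right_le_normalizer_left _ _ hn]; exact hg
  obtain ⟨_, ⟨hf, ⟨f, e⟩, rfl⟩, _, ⟨σ, hσ, rfl⟩, rfl⟩ := hg'
  obtain rfl : e = 1 := Subsingleton.elim _ _
  choose a ha using fun i => hD (f i)
  classical
  refine ⟨fun i => decide (f i ≠ j (a i)), σ, hσ, key f σ _ hf hσ fun i b => ?_, fun h h' => ?_⟩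
  · by_cases h : f i = j (a i)
    · simp [h, hj]
    · rw [decide_eq_true h, (ha i).resolve_left h, B.th_true, ← hj (a i) (B.θ b), ← hc]; group
  · obtain rfl : f = j ∘ a := funext fun i => by simpa using h i
    exact ⟨a, (hH a).1 hf, by simp [h']⟩

end CfsgLib.PSLSyl
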