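import Mathlib
import Cfsg.Agent.Lib.PSLSyl.Wr
import Cfsg.Agent.Lib.PSLSyl.GL2
import Cfsg.Agent.Lib.Fusion.TwoSimple
import Cfsg.Agent.Lib.TwoGrp.Pres

/-!
# The automorphism group of a Sylow 2-subgroup of `PSL_n(q)`, `q` odd, is a 2-group
(unless `n = 2` and `q ≡ ±3 mod 8`)
-/

set_option autoImplicit false
set_option linter.unusedSectionVars false

namespace CfsgLib.PSLSyl

open CfsgLib.Syl2EA CfsgLib.Fusion CfsgLib.LAE Subgroup Matrix
open Equiv (Perm)

universe u

variable {F : Type u} [Field F] [Fintype F]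

theorem exists_wr (hF : Odd (Fintype.card F)) (m : ℕ) :
    ∃ (δ : (Fin m → GL (Fin 2) F) × Unit →* GL (Fin (2 * m)) F) (ψ : Perm (Fin m) →* GL (Fin (2 * m)) F),
      Wr δ ψ ∧ (∀ g, GeneralLinearGroup.det (δ g) = ∏ i, GeneralLinearGroup.det (g.1 i)) ∧
      (∀ σ, GeneralLinearGroup.det (ψ σ) = 1) ∧
      ∀ c, δ (fun _ => GeneralLinearGroup.scalar _ c, 1) = GeneralLinearGroup.scalar _ c := by
  classical
  have h2 := Orth.two_ne_zero_of_odd_card hF
  obtain ⟨e⟩ : Nonempty ((Fin (2 * m) → F) ≃ₗ[F] ((Fin m → Fin 2 → F) × (Fin 0 → F))) :=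
    ⟨LinearEquiv.ofFinrankEq _ _ (by simp [Module.finrank_pi_fintype, mul_comm])⟩
  have hw := (wr_lin (F := F) (ι := Fin m) (U := Fin 2 → F) (R := Fin 0 → F)).comp
    Forms.glEquiv.toMonoidHom (1 : Unit →* _) Forms.glEquiv.injective fun _ _ _ => rfl
  let Φ := (Forms.glEquiv (ι := Fin (2 * m)) (F := F)).trans (linCongr e)
  have hΦ : ∀ g, GeneralLinearGroup.det (Φ.symm g) = LinearEquiv.det g := fun g => by
    obtain ⟨g, rfl⟩ := Φ.surjective g
    rw [Φ.symm_apply_apply, ← det_glEquiv, ← det_linCongr e]; rfl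
  refine ⟨Φ.symm.toMonoidHom.comp _, Φ.symm.toMonoidHom.comp _, Wr.of_comp Φ.toMonoidHom Φ.injective
    (by simpa only [← MonoidHom.comp_assoc, MulEquiv.toMonoidHom_eq_coe, MulEquiv.coe_monoidHom_comp_coe_monoidHom_symm,
      MonoidHom.id_comp] using hw), fun g => (hΦ _).trans ?_, fun σ => (hΦ _).trans ?_,
      fun c => Φ.symm_apply_eq.2 (LinearEquiv.ext fun v => ?_)⟩
  · rw [MonoidHom.comp_apply, det_lδ]
    simp only [← det_glEquiv]
    exact (congrArg _ (map_one _)).trans (mul_one _)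
  · exact Abelianization.commutator_subset_ker (LinearEquiv.det.comp (Orth.OG _).subtype)
      (oψ_mem h2 (dq_nondegenerate h2 (a := (1 : Fin 0 → F)) fun _ => one_ne_zero) σ)
  · have h1 : ∀ {n : ℕ} (w : Fin n → F), Forms.glEquiv (GeneralLinearGroup.scalar _ c) w = (c : F) • w :=
      fun w => by
        rw [Forms.glEquiv_apply]
        ext i
        simp [GeneralLinearGroup.scalar, mulVec_diagonal]
    change (fun i => Forms.glEquiv (GeneralLinearGroup.scalar _ c) (v.1 i), v.2) =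
      e (Forms.glEquiv (GeneralLinearGroup.scalar _ c) (e.symm v))
    simp only [h1, map_smul, LinearEquiv.apply_symm_apply]
    exact Prod.ext rfl (Subsingleton.elim _ _)

theorem isPGroup_mulAut_of (hF : Odd (Fintype.card F)) (m : ℕ) (ev : Prop) (two : ev → Nontrivial (Fin m))
    (H : Subgroup (GL (Fin (2 * m)) F)) [H.Normal] (hH : ∀ g, g ∈ H ↔ (ev → GeneralLinearGroup.det g = 1))
    {L : Type*} [Group L] [Finite L] (ρ : H →* L) (hρ : Function.Surjective ρ)
    (hk : ∀ g, ρ g = 1 ↔ ∃ c, g.1 = GeneralLinearGroup.scalar _ c ∧ (ev ∨ c = 1)) (S : Sylow 2 L) :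
    IsPGroup 2 (MulAut (S : Subgroup L)) := by
  obtain ⟨A, _, _, B, R, j, r, hR, hv, hc, hr, hD, hd, hj, hN, hθ⟩ := exists_blk hF
  obtain ⟨δ₀, ψ, hw₀, hδ, hψ, hs⟩ := exists_wr hF m
  obtain ⟨W⟩ : Nonempty (Sylow 2 (Perm (Fin m))) := inferInstance
  have hw := hw₀.comp R.subtype (MonoidHom.id _) Subtype.val_injective Function.injective_id
  set δ := δ₀.comp ((R.subtype.compLeft (Fin m)).prodMap (MonoidHom.id _)) with hδ'
  have hdet : ∀ f, GeneralLinearGroup.det (δ (f, 1)) = ∏ i, GeneralLinearGroup.det (f i).1 := fun f => hδ _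
  have hS := hw.sylow hR (IsPGroup.of_subsingleton 2 _) W (by
    rw [val_gl hF, val_prod_gl hF Fintype.one_lt_card, ← val_gl2 hF]
    simp only [Nat.card_eq_fintype_card (α := Fin m), Fintype.card_fin]
    have := Nat.mul_le_mul_left m hv
    omega) H fun σ => (hH _).2 fun _ => hψ σ
  set P := (H ⊓ δ.range) ⊔ (W : Subgroup (Perm (Fin m))).map ψ
  let Q := hS.toSylow.mapSurjective hρ
  let φ : P →* (Q : Subgroup L) := (ρ.comp (inclusion hS.le)).codRestrict _ fun g => ⟨_, g.2, rfl⟩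
  have hH' : ∀ x : Fin m → A, δ (j ∘ x, 1) ∈ H ↔ x ∈ B.base ev := fun x => by
    rw [hH, hdet, Tor.mem_base, ← map_prod B.N, hN]
    exact imp_congr_right fun _ => Eq.congr_left
      (map_prod (GeneralLinearGroup.det.comp (R.subtype.comp j)) x Finset.univ).symm
  obtain ⟨M⟩ := nonempty_mdl B j r hc hr hD hw ev two H hH' (fun i => (hH _).2 fun _ => by
      rw [hdet, Finset.prod_eq_single i (fun l _ h => by simp [h]) (by simp)]; simpa using hd)
    W (extFun φ) (isHomOn_extFun φ) (by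
      rintro ⟨_, g, hg, rfl⟩
      exact ⟨g, hg, extFun_apply φ hg⟩) fun x hx => by
    have hx' : δ (j ∘ x, 1) ∈ P := mem_sup_left ⟨(hH' x).2 hx, _, rfl⟩
    rw [extFun_apply φ hx', ← Subtype.val_inj]
    refine (hk _).trans ⟨fun ⟨c, h1, h2⟩ => ?_, fun ⟨c, h1, h2, h3⟩ => ?_⟩
    · have h3 : ∀ i, (j (x i)).1 = GeneralLinearGroup.scalar _ c :=
        congrFun (congrArg Prod.fst (hw₀.inj (h1.trans (hs c).symm)))
      rcases isEmpty_or_nonempty (Fin m) with h | ⟨⟨i⟩⟩
      · exact ⟨1, map_one _, fun i => h.elim i, Or.inr rfl⟩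
      refine ⟨x i, (hθ _).2 ⟨c, h3 i⟩, fun l => hj (Subtype.ext ((h3 l).trans (h3 i).symm)), h2.imp_right ?_⟩
      rintro rfl
      exact hj (Subtype.ext ((h3 i).trans (by simp)))
    · obtain ⟨d, hd⟩ := (hθ c).1 h1
      refine ⟨d, Eq.trans (congrArg (fun f => δ₀ (f, 1)) (funext fun i => ?_)) (hs d), h3.imp_right ?_⟩
      · exact (congrArg (fun a => (j a).1) (h2 i)).trans hd
      · rintro rfl
        exact scalar_injective (hd.symm.trans (by simp))
  exact (M.isPGroup_mulAut Q.isPGroup').of_equiv (MulAut.congr (Q.equiv S))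

theorem isPGroup_mulAut_of_dihedral {T : Type*} [Group T] [Finite T] (hT : IsPGroup 2 T) {a b : T}
    (h1 : b * b = 1) (h2 : b * a * b⁻¹ = a⁻¹) (h3 : a * a ≠ 1) (h : ∀ g, ∃ i : ℤ, g = a ^ i ∨ g = a ^ i * b) :
    IsPGroup 2 (MulAut T) := by
  have := finite_mulAut' T
  refine (isPGroup_of_forall_coprime_eq_one (K := (⊤ : Subgroup (MulAut T))) fun α _ hα => ?_).of_equiv topEquiv
  have h4 : ∀ β : MulAut T, ∀ g ∈ zpowers a, β g ∈ zpowers a := by
    rintro β _ ⟨i, rfl⟩
    obtain ⟨l, e | e⟩ := h (β a)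
    · rw [map_zpow, e]; exact zpow_mem (zpow_mem (mem_zpowers a) l) i
    refine absurd (β.injective ?_) h3
    rw [map_mul, map_one, e]
    calc _ = a ^ l * (b * a * b⁻¹) ^ l * (b * b) := by rw [_root_.conj_zpow]; group
      _ = 1 := by rw [h1, h2]; group
  have h5 : StabOn α ⊥ (zpowers a) := stabOn_bot_iff.2 <| fix_of_omega hT hα (by
      rintro _ ⟨i, rfl⟩ _ ⟨l, rfl⟩
      exact (Commute.zpow_zpow_self a i l).eq) (h4 α) (by
    rintro _ ⟨i, rfl⟩ h5
    obtain ⟨l, hl⟩ := h4 α a (mem_zpowers a)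
    have h6 : α (a ^ i) = (a ^ i) ^ l := by rw [map_zpow, ← hl, ← _root_.zpow_mul, ← _root_.zpow_mul, mul_comm]
    obtain ⟨k, rfl | rfl⟩ := Int.even_or_odd' l
    · rw [_root_.zpow_mul, _root_.zpow_two, h5, _root_.one_zpow, map_eq_one_iff _ α.injective] at h6
      simp only [h6, map_one]
    · rw [h6, _root_.zpow_add_one, _root_.zpow_mul, _root_.zpow_two, h5, _root_.one_zpow, one_mul])
  have h6 : StabOn α (zpowers a) ⊤ := fun g _ => by
    by_cases hg : g ∈ zpowers a
    · exact mul_mem (inv_mem hg) (h4 α g hg)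
    have hg' : α g ∉ zpowers a := fun h => hg (by simpa using h4 α⁻¹ _ h)
    obtain ⟨i, rfl | rfl⟩ := h g
    · exact absurd ⟨i, rfl⟩ hg
    obtain ⟨l, e | e⟩ := h (α (a ^ i * b))
    · exact absurd ⟨l, e.symm⟩ hg'
    refine ⟨i - l, ?_⟩
    rw [e]
    calc a ^ (i - l) = b⁻¹ * (b * a * b⁻¹) ^ (i - l) * b := by rw [_root_.conj_zpow]; group
      _ = _ := by rw [h2]; group
  exact MulEquiv.ext fun x => stabOn_bot_iff.1 (h5.trans_of_coprime hT hα bot_le h6) x trivial

theorem isPGroup_mulAut_psl_two (hF : Odd (Fintype.card F)) (h16 : 16 ∣ Fintype.card F ^ 2 - 1)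
    (S : Sylow 2 (ProjectiveSpecialLinearGroup (Fin 2) F)) :
    IsPGroup 2 (MulAut (S : Subgroup (ProjectiveSpecialLinearGroup (Fin 2) F))) := by
  obtain ⟨Q⟩ : Nonempty (Sylow 2 (SpecialLinearGroup (Fin 2) F)) := inferInstance
  let π := QuotientGroup.mk' (center (SpecialLinearGroup (Fin 2) F))
  have hπ : Function.Surjective π := QuotientGroup.mk'_surjective _
  obtain ⟨k, hk, ⟨e⟩⟩ := Classical.sl2_sylow_two_quaternion hF Q
  obtain ⟨a, b, h1, h2, h3, -, h6⟩ := TwoGrp.exists_gens_of_quaternion e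
  have ha : a ∈ (Q : Subgroup _) := (h6 a).2 ⟨1, Or.inl (zpow_one a).symm⟩
  have hb : b ∈ (Q : Subgroup _) := (h6 b).2 ⟨0, Or.inr (by simp)⟩
  have hc : Nat.card (center (SpecialLinearGroup (Fin 2) F)) = 2 := by
    have := Nat.odd_iff.1 hF
    rw [Classical.sl_card_center, Fintype.card_fin, Nat.gcd_eq_left (by omega)]
  have hk2 : 2 ≤ k := by
    have h7 := Nat.card_congr e.toEquiv
    have h8 : 2 ^ 4 ∣ Nat.card (Q : Subgroup (SpecialLinearGroup (Fin 2) F)) := by
      rw [Q.card_eq_multiplicity]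
      refine pow_dvd_pow _ ((Nat.prime_two.pow_dvd_iff_le_factorization Nat.card_pos.ne').1 ?_)
      rw [Classical.sl2_card]; exact h16.mul_left _
    have : NeZero (2 ^ k) := ⟨by positivity⟩
    rw [h7, Nat.card_eq_fintype_card, QuaternionGroup.card, show 4 * 2 ^ k = 2 ^ (k + 2) by ring,
      Nat.pow_dvd_pow_iff_le_right one_lt_two] at h8
    omega
  refine (isPGroup_mulAut_of_dihedral (Q.mapSurjective hπ).isPGroup' (a := ⟨π a, a, ha, rfl⟩)
    (b := ⟨π b, b, hb, rfl⟩) (Subtype.ext ?_) (Subtype.ext ?_) (fun h => ?_) ?_).of_equiv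
      (MulAut.congr ((Q.mapSurjective hπ).equiv S))
  · have h4 : (b * b) ^ 2 = 1 := by rw [h2, ← pow_mul, mul_comm, ← h1, pow_orderOf_eq_one]
    refine (map_mul π b b).symm.trans ((QuotientGroup.eq_one_iff _).2 ?_)
    have h5 : (b * b).1 * (b * b).1 = 1 := congrArg Subtype.val ((pow_two (b * b)).symm.trans h4)
    have h7 := (b * b).2
    have h0 := Orth.two_ne_zero_of_odd_card hF
    generalize b * b = c at h5 h7
    rw [det_fin_two] at h7
    have h8 := fun i l => congrFun (congrFun h5 i) l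
    simp only [Fin.forall_fin_two, mul_apply, Fin.sum_univ_two, one_apply_eq, one_apply_ne, ne_eq, zero_ne_one,
      one_ne_zero, not_false_eq_true] at h8
    obtain ⟨⟨e1, e2⟩, e3, e4⟩ := h8
    have h9 : c.1 0 0 + c.1 1 1 ≠ 0 := fun h => h0 (by linear_combination c.1 0 0 * h - e1 - h7)
    refine Matrix.SpecialLinearGroup.mem_center_iff.2 ⟨c.1 0 0, ?_, ?_⟩
    · have := mul_left_cancel₀ h9 (show _ * c.1 0 1 = _ * 0 by linear_combination e2)
      rw [Fintype.card_fin]; linear_combination e1 - c.1 1 0 * this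
    · have f1 := mul_left_cancel₀ h9 (show _ * c.1 0 1 = _ * 0 by linear_combination e2)
      have f2 := mul_left_cancel₀ h9 (show _ * c.1 1 0 = _ * 0 by linear_combination e3)
      have f3 := mul_left_cancel₀ h9 (show _ * c.1 0 0 = _ * c.1 1 1 by linear_combination e1 - e4)
      ext i l
      fin_cases i <;> fin_cases l <;> simp [f1, f2, f3]
  · exact (by rw [← map_inv, ← map_inv, ← map_mul, ← map_mul, h3] : π b * π a * (π b)⁻¹ = (π a)⁻¹)
  · have h4 : a * a ∈ center _ := (QuotientGroup.eq_one_iff _).1 ((map_mul π a a).trans (congrArg Subtype.val h))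
    have h5 := congrArg Subtype.val (pow_card_eq_one' (x := (⟨_, h4⟩ : center (SpecialLinearGroup (Fin 2) F))))
    rw [hc] at h5
    replace h5 : a ^ (2 * 2) = 1 := by rw [pow_mul, pow_two a]; exact h5
    have h7 := Nat.le_of_dvd (by norm_num) (h1 ▸ orderOf_dvd_of_pow_eq_one h5)
    have : 2 ^ 2 ≤ 2 ^ k := Nat.pow_le_pow_right two_pos hk2
    omega
  · rintro ⟨_, g, hg, rfl⟩
    obtain ⟨i, rfl | rfl⟩ := (h6 g).1 hg
    · exact ⟨i, Or.inl (Subtype.ext (map_zpow π a i))⟩
    · exact ⟨i, Or.inr (Subtype.ext ((map_mul π _ _).trans (by rw [map_zpow]; rfl)))⟩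

theorem isPGroup_mulAut_psl_even (hF : Odd (Fintype.card F)) {m : ℕ} (hm : 2 ≤ m)
    (S : Sylow 2 (ProjectiveSpecialLinearGroup (Fin (2 * m)) F)) :
    IsPGroup 2 (MulAut (S : Subgroup (ProjectiveSpecialLinearGroup (Fin (2 * m)) F))) := by
  have : Nonempty (Fin (2 * m)) := ⟨⟨0, by omega⟩⟩
  let ε := (MonoidHom.ofInjective (SpecialLinearGroup.toGL_injective (n := Fin (2 * m)) (R := F))).trans
    (MulEquiv.subgroupCongr Classical.sl_range_toGL)
  refine isPGroup_mulAut_of hF m True (fun _ => Fin.nontrivial_iff_two_le.2 hm) _ (fun g => by simp)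
    ((QuotientGroup.mk' _).comp ε.symm.toMonoidHom) ((QuotientGroup.mk'_surjective _).comp ε.symm.surjective)
    (fun g => ?_) S
  obtain ⟨g, rfl⟩ := ε.surjective g
  refine (QuotientGroup.eq_one_iff (ε.symm (ε g))).trans ?_
  rw [ε.symm_apply_apply, Matrix.SpecialLinearGroup.mem_center_iff]
  refine ⟨fun ⟨c, h1, h2⟩ => ⟨Units.mk0 c fun h => ?_, Units.ext h2.symm, Or.inl trivial⟩, fun ⟨c, h1, _⟩ => ?_⟩
  · rw [h, zero_pow Fintype.card_ne_zero] at h1
    exact zero_ne_one h1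
  · have h2 : g.1 = scalar _ (c : F) := congrArg Units.val h1
    exact ⟨c, by simpa [h2] using g.2, h2.symm⟩

theorem isPGroup_mulAut_psl_odd (hF : Odd (Fintype.card F)) (m : ℕ)
    (S : Sylow 2 (ProjectiveSpecialLinearGroup (Fin (2 * m + 1)) F)) :
    IsPGroup 2 (MulAut (S : Subgroup (ProjectiveSpecialLinearGroup (Fin (2 * m + 1)) F))) := by
  obtain ⟨P⟩ : Nonempty (Sylow 2 (GL (Fin (2 * m)) F)) := inferInstance
  obtain ⟨Q⟩ : Nonempty (Sylow 2 (SpecialLinearGroup (Fin (2 * m + 1)) F)) := inferInstance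
  have h1 := isPGroup_mulAut_of hF m False False.elim ⊤ (fun g => by simp) (Subgroup.subtype ⊤)
    (fun g => ⟨⟨g, trivial⟩, rfl⟩) (fun g => by simp) P
  have hq := Fintype.one_lt_card (α := F)
  obtain ⟨e⟩ := nonempty_sylow_equiv_of_injective (glToSL (2 * m) F) (glToSL_injective _)
    (m := Fintype.card F ^ (2 * m) * ∑ i ∈ Finset.range (2 * m + 1), Fintype.card F ^ i) (by
      refine Nat.eq_of_mul_eq_mul_left (Classical.sl_card_sub_one_pos (F := F)) ?_
      have h2 : (2 * m + 1) * (2 * m + 1 - 1) / 2 = 2 * m * (2 * m - 1) / 2 + 2 * m := by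
        rw [← Finset.sum_range_id, ← Finset.sum_range_id, Finset.sum_range_succ]
      rw [Classical.sl_card_mul, Classical.gl_card, Classical.gl_card, Finset.prod_range_succ, h2,
        ← geom_sum_mul_of_one_le hq.le (2 * m + 1)]
      ring) (by
      rw [Nat.two_dvd_ne_zero, ← Nat.odd_iff]
      refine hF.pow.mul ?_
      rw [Finset.odd_sum_iff_odd_card_odd, Finset.filter_true_of_mem fun _ _ => hF.pow, Finset.card_range]
      exact odd_two_mul_add_one m) P Q
  let π := QuotientGroup.mk' (center (SpecialLinearGroup (Fin (2 * m + 1)) F))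
  have hπ : Function.Surjective π := QuotientGroup.mk'_surjective _
  have h3 : Function.Injective (π.subgroupMap Q) := (injective_iff_map_eq_one _).2 fun g hg => by
    have h4 : g.1 ∈ center _ := (QuotientGroup.eq_one_iff _).1 (congrArg Subtype.val hg)
    have h5 := congrArg Subtype.val (pow_card_eq_one' (x := (⟨_, h4⟩ : center _)))
    refine eq_one_of_pow_coprime Q.isPGroup' (n := Nat.card (center (SpecialLinearGroup (Fin (2 * m + 1)) F))) ?_
      (Subtype.ext h5)
    rw [Classical.sl_card_center, Fintype.card_fin]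
    exact (Nat.coprime_two_right.2 (odd_two_mul_add_one m)).coprime_dvd_left (Nat.gcd_dvd_left _ _)
  exact h1.of_equiv (MulAut.congr ((e.trans (MulEquiv.ofBijective (π.subgroupMap Q)
    ⟨h3, π.subgroupMap_surjective Q⟩)).trans ((Q.mapSurjective hπ).equiv S)))

theorem isPGroup_mulAut_psl (hF : Odd (Fintype.card F)) {n : ℕ} (hn : 1 ≤ n)
    (h2 : n = 2 → Fintype.card F % 8 = 1 ∨ Fintype.card F % 8 = 7)
    (S : Sylow 2 (ProjectiveSpecialLinearGroup (Fin n) F)) :
    IsPGroup 2 (MulAut (S : Subgroup (ProjectiveSpecialLinearGroup (Fin n) F))) := by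
  obtain ⟨m, rfl | rfl⟩ := Nat.even_or_odd' n
  · rcases (by omega : m = 1 ∨ 2 ≤ m) with rfl | hm
    · refine isPGroup_mulAut_psl_two hF ((Nat.modEq_iff_dvd' (Nat.one_le_pow _ _ Fintype.card_pos)).1 ?_) S
      have : Fintype.card F % 16 = 1 ∨ Fintype.card F % 16 = 7 ∨ Fintype.card F % 16 = 9 ∨
        Fintype.card F % 16 = 15 := by have := h2 rfl; omega
      rw [Nat.ModEq, Nat.pow_mod]
      rcases this with h | h | h | h <;> rw [h]
    · exact isPGroup_mulAut_psl_even hF hm S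
  · exact isPGroup_mulAut_psl_odd hF m S

end CfsgLib.PSLSyl
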