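import Mathlib
import Cfsg.Agent.Lib.Fusion.CentPre
import Cfsg.Agent.Lib.Fusion.Factor2
import Cfsg.Agent.Lib.Fusion.HypGroup
import Cfsg.Agent.Lib.Fusion.TrApps
import Cfsg.Agent.Lib.Fusion.AutChain

/-!
# A normal subsystem with trivial centralizer over a group whose automorphism group is a `p`-group
-/

set_option autoImplicit false
set_option linter.unusedSectionVars false

open Cfsg Cfsg.FusionSystem

namespace CfsgLib.PSLSyl

open CfsgLib.Fusion

universe u

variable {Ω : Type u} [Group Ω] {S T : Subgroup Ω} {p : ℕ} {F : FusionSystem S} {E : FusionSystem T}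
  [Finite S] [Fact p.Prime]

theorem aut_eq_one_of_le (hS : IsPGroup p S) (hE : E.IsNormalIn F p) (hA : IsPGroup p (MulAut T))
    (hC : centE p E F = ⊥) {P : Subgroup Ω} (hTP : T ≤ P) (hP : P ≤ S) {α : MulAut P}
    (hα : α ∈ F.autGroup P) (hc : Nat.Coprime (orderOf α) p) : α = 1 := by
  have hT := normalIn_stronglyClosed hE
  have : Finite P := Finite.of_injective _ (Subgroup.inclusion_injective hP)
  have : Finite T := Finite.of_injective _ (Subgroup.inclusion_injective (hTP.trans hP))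
  have hm := (mem_autGroup hP).1 hα
  have hmT : ∀ x ∈ T, extAut α x ∈ T := fun x hx => by
    obtain ⟨φ, hφ, e⟩ := hm.mono hTP
    exact e ⟨x, hx⟩ ▸ hT.2 T le_rfl φ hφ ⟨x, hx⟩
  obtain ⟨β, -, hβ⟩ := (hm.mono hTP).exists_aut_of_mem hmT
  have hβn : ∀ n : ℕ, ∀ x ∈ T, extAut (β ^ n) x = extAut (α ^ n) x := by
    intro n
    induction n with
    | zero => intro x _; simp only [pow_zero, extAut_one_apply]
    | succ n ih =>
      intro x hx
      rw [pow_succ, pow_succ, extAut_mul_apply, extAut_mul_apply, hβ x hx, ih _ (hmT x hx)]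
  have hβ1 : β = 1 := eq_one_of_pow_coprime hA hc (aut_eq_one fun x hx => by
    rw [hβn _ x hx, pow_orderOf_eq_one, extAut_one_apply])
  have hfix : ∀ x ∈ T, extAut α x = x := fun x hx => by rw [← hβ x hx, hβ1, extAut_one_apply]
  have hPp : IsPGroup p P := hS.of_injective _ (Subgroup.inclusion_injective hP)
  have h1 : StabOn α ⊥ ((centralizerIn S T).subgroupOf P) := by
    refine stabOn_bot_iff.2 fun y hy => Subtype.ext ?_
    have h2 : CMor F T (P ⊓ centralizerIn S T) (extAut α) :=
      ⟨inf_le_right, extAut α, hm.mono (sup_le inf_le_left hTP), fun _ _ => rfl, hfix⟩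
    have h3 := h2.mem_centE hS hE (x := y) ⟨y.2, hy⟩
    rw [hC, Subgroup.mem_bot, inv_mul_eq_one] at h3
    rw [coe_eq_extAut, ← h3]
  have h2 : StabOn α ((centralizerIn S T).subgroupOf P) ⊤ := by
    intro y _
    rw [Subgroup.mem_subgroupOf, mem_centralizerIn']
    refine ⟨hP (y⁻¹ * α y).2, fun t ht => ?_⟩
    have hn : (y : Ω) * t * (y : Ω)⁻¹ ∈ T := by
      have := hT.2 T le_rfl _ (F.conj_mem hT.1 (hP y.2)) ⟨t, ht⟩
      exact this
    have h3 := hm.map_conj y.2 (hTP ht)
    rw [hfix _ hn, hfix _ ht, ← coe_eq_extAut] at h3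
    rw [Subgroup.coe_mul, Subgroup.coe_inv]
    calc t * ((y : Ω)⁻¹ * (α y : P)) = (y : Ω)⁻¹ * ((y : Ω) * t * (y : Ω)⁻¹) * (α y : P) := by group
      _ = _ := by rw [h3]; group
  have h3 := StabOn.trans_of_coprime hPp hc bot_le h1 h2
  exact MulEquiv.ext fun x => stabOn_bot_iff.1 h3 x trivial

theorem eq_of_centE_eq_bot (hS : IsPGroup p S) (hF : F.hyperfocalSubgroup p = S) (hE : E.IsNormalIn F p)
    (hA : IsPGroup p (MulAut T)) (hC : centE p E F = ⊥) : T = S ∧ ∀ P, E.Hom P = F.Hom P := by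
  have hT := normalIn_stronglyClosed hE
  have hsat : F.IsSaturated p := hE.1.2.1
  have hTS : T = S := by
    have : (T.subgroupOf S).Normal := ⟨fun t ht s => by
      have := hT.2 T le_rfl _ (F.conj_mem hT.1 s.2) ⟨t, ht⟩
      exact this⟩
    obtain ⟨D, hD⟩ := exists_isFactor_quotient hT
    have h1 := hD.hyperfocal_eq hS hsat hT
    have h2 : D.hyperfocalSubgroup p ≤ ⊥ := hyperfocal_le_iff.2 fun P hP β hβ hc x hx => by
      obtain ⟨α, hα, hc', e⟩ := hD.exists_lift_aut_coprime hP hβ hc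
      obtain ⟨y, hy, rfl⟩ := hD.exists_pre hP hx
      rw [e y hy, aut_eq_one_of_le hS hE hA hC (hD.ker_le_pre P) (fun _ h => (hD.mem_pre.1 h).1) hα hc',
        extAut_one_apply, inv_mul_cancel]
      exact Subgroup.one_mem _
    rw [h1, hF, hD.img_eq] at h2
    refine le_antisymm hT.1 fun x hx => (hD.ker x hx).1 ?_
    exact h2 (Subgroup.mem_top _)
  subst hTS
  refine ⟨rfl, fun P => hom_eq_iff.2 fun f => ⟨fun h => h.sub (normalIn_sub hE), fun h => ?_⟩⟩
  obtain ⟨a, f₀, ha, -, h₀, e⟩ := inv_frattini (normalIn_inv hE) h.le h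
  obtain ⟨s, hs, e'⟩ := exists_conj_of_isPGroup_top hS hsat (hA.to_subgroup _) ha
  exact (h₀.conj_left hs).congr fun x hx => by rw [e x hx, e' _ (h₀.mem hx)]

theorem realized_of_centE_eq_bot {G : Type u} [Group G] [Finite G] [IsSimpleGroup G] (hG : ¬ IsMulCommutative G)
    (S : Sylow p G) {T : Subgroup G} {E : FusionSystem T} (hE : E.IsNormalIn (groupFusionSystem (S : Subgroup G)) p)
    (hC : centE p E (groupFusionSystem (S : Subgroup G)) = ⊥) {H : Type*} [Group H] (ι : T →* H)
    (hι : E.IsRealizedBy ι) (hA : IsPGroup p (MulAut ι.range)) :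
    ∃ κ : (S : Subgroup G) →* H, (groupFusionSystem (S : Subgroup G)).IsRealizedBy κ ∧ κ.range = ι.range := by
  have hA' : IsPGroup p (MulAut T) := hA.of_equiv (MulAut.congr (MonoidHom.ofInjective hι.1)).symm
  have hr : pResidual p G = ⊤ := by
    have : (pResidual p G).Normal := ⟨fun x hx g => by
      have : (pResidual p G).map (MulAut.conj g).toMonoidHom ≤ pResidual p G := by
        rw [pResidual, MonoidHom.map_closure]
        refine Subgroup.closure_mono ?_
        rintro _ ⟨y, hy, rfl⟩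
        show (orderOf (MulAut.conj g y)).Coprime p
        rw [MulEquiv.orderOf_eq]; exact hy
      exact this ⟨x, hx, rfl⟩⟩
    refine (IsSimpleGroup.eq_bot_or_eq_top_of_normal _ this).resolve_left fun h => hG ?_
    have hp : IsPGroup p G := by
      have := isPGroup_of_forall_coprime_eq_one (p := p) (K := (⊤ : Subgroup G)) fun x _ hx => by
        have : x ∈ pResidual p G := Subgroup.subset_closure hx
        rwa [h, Subgroup.mem_bot] at this
      exact this.of_equiv Subgroup.topEquiv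
    have := hp.isNilpotent
    have : Group.IsSolvable G := inferInstance
    exact ⟨⟨IsSimpleGroup.comm_iff_isSolvable.2 this⟩⟩
  obtain ⟨rfl, h⟩ := eq_of_centE_eq_bot S.isPGroup' (by rw [hyperfocal_group, hr, inf_top_eq]) hE hA' hC
  exact ⟨ι, fs_ext_hom h ▸ hι, rfl⟩

end CfsgLib.PSLSyl
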