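import Mathlib
import Cfsg.Agent.Lib.PSLSyl.Aut
import Cfsg.Agent.Lib.PSLSyl.Glue
import Cfsg.Agent.Lib.ZStarApp.Basic

/-!
# Simple groups whose 2-fusion system has a normal subsystem of linear type with trivial centralizer
-/

set_option autoImplicit false

open Cfsg Cfsg.FusionSystem

namespace CfsgLib.PSLSyl

open CfsgLib.Fusion Subgroup

theorem center_eq_bot_of_realized {Ω : Type*} [Group Ω] {U : Subgroup Ω} {D : FusionSystem U} {H : Type*} [Group H]
    [Finite H] [IsSimpleGroup H] (hH : commutator H = ⊤) {ι : U →* H} (hι : D.IsRealizedBy ι) (T : Sylow 2 H)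
    (hT : (T : Subgroup H) = ι.range) : D.center = ⊥ := by
  refine le_bot_iff.1 (sSup_le fun Q hQ x hx => ?_)
  have hxU : x ∈ U := hQ.1 hx
  have hy : extFun ι x ∈ (T : Subgroup H) := hT ▸ extFun_mem_range ι x
  have h1 := ZStarApp.mk_mem_center_of_weaklyClosed T hy fun g hg => by
    obtain ⟨φ, hφ, e⟩ := realized_exists_hom hι (zpowers_le_of_mem hxU) (g := g) (by
      rintro _ ⟨k, rfl⟩
      rw [(isHomOn_extFun ι).map_zpow hxU, ← conj_zpow, ← hT]
      exact zpow_mem hg k)
    obtain ⟨ψ, -, h1, h2⟩ := hQ.2 _ φ hφ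
    rw [← e ⟨x, mem_zpowers x⟩, (h1 ⟨x, mem_zpowers x⟩).symm.trans (h2 ⟨x, hx⟩)]
  have h2 : extFun ι x = 1 := by
    rcases IsSimpleGroup.eq_bot_or_eq_top_of_normal (pPrimeCore 2 H) inferInstance with h | h
    · rcases IsSimpleGroup.eq_bot_or_eq_top_of_normal (center H) inferInstance with h' | h'
      · rw [← mem_bot, ← h', mem_center_iff]
        intro g
        have := mem_center_iff.1 h1 (QuotientGroup.mk' _ g)
        rw [← map_mul, ← map_mul, QuotientGroup.mk'_apply, QuotientGroup.mk'_apply, QuotientGroup.eq, h,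
          mem_bot] at this
        exact inv_mul_eq_one.1 this
      · refine absurd (hH.symm.trans ((commutator_eq_bot_iff_center_eq_top H).2 h')) top_ne_bot
    · have h3 := Core.coprime_card_pPrimeCore 2 H
      rw [h, card_top] at h3
      exact congrArg Subtype.val (eq_one_of_pow_coprime T.isPGroup' h3 (x := ⟨_, hy⟩)
        (Subtype.ext pow_card_eq_one'))
  exact realized_injOn hι hxU U.one_mem (h2.trans (isHomOn_extFun ι).map_one.symm)

theorem realized_psl {G : Type*} [Group G] [Finite G] [IsSimpleGroup G] (hG : ¬ IsMulCommutative G) (S : Sylow 2 G)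
    {n : ℕ} (hn : 2 ≤ n) {F : Type*} [Field F] [Fintype F] (hq : Odd (Fintype.card F))
    (h2 : n = 2 → Fintype.card F % 8 = 1 ∨ Fintype.card F % 8 = 7) {T : Subgroup G} {E : FusionSystem T}
    (hE : E.IsNormalIn (groupFusionSystem (S : Subgroup G)) 2)
    {ι : T →* Matrix.ProjectiveSpecialLinearGroup (Fin n) F} (hι : E.IsRealizedBy ι)
    (T' : Sylow 2 (Matrix.ProjectiveSpecialLinearGroup (Fin n) F)) (hT : (T' : Subgroup _) = ι.range)
    (hC : centE 2 E (groupFusionSystem (S : Subgroup G)) = ⊥) :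
    ∃ ι : ↥(S : Subgroup G) →* Matrix.ProjectiveSpecialLinearGroup (Fin n) F,
      (groupFusionSystem (S : Subgroup G)).IsRealizedBy ι ∧
        ∃ T' : Sylow 2 (Matrix.ProjectiveSpecialLinearGroup (Fin n) F), (T' : Subgroup _) = ι.range := by
  obtain ⟨κ, h1, h3⟩ := realized_of_centE_eq_bot hG S hE hC ι hι (hT ▸ isPGroup_mulAut_psl hq (by omega) h2 T')
  exact ⟨κ, h1, T', hT.trans h3.symm⟩

end CfsgLib.PSLSyl
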